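import Mathlib.LinearAlgebra.Lagrange
import Mathlib.RingTheory.AdjoinRoot
import Mathlib.RingTheory.MvPolynomial.Basic
import Mathlib.RingTheory.Localization.FractionRing
import Mathlib.RingTheory.PowerSeries.Inverse
import Mathlib.RingTheory.Polynomial.Basic
import Mathlib.Algebra.Polynomial.Reverse
import Mathlib.Algebra.Ring.GeomSum

set_option autoImplicit false

open Finset

namespace Groth.Agent.Lead.AdamsRR

noncomputable section

open Polynomial

variable {r : ℕ}

section Defs

variable {R : Type*} [CommRing R]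

/-- `∏ (T - v i)` -/
def pv (v : Fin (r + 1) → R) : R[X] := ∏ i, (X - C (v i))

theorem pv_monic (v : Fin (r + 1) → R) : (pv v).Monic := monic_prod_X_sub_C v univ

theorem natDegree_pv [Nontrivial R] (v : Fin (r + 1) → R) : (pv v).natDegree = r + 1 := by
  simp [pv]

/-- the residue functional -/
def tau (v : Fin (r + 1) → R) : R[X] →ₗ[R] R :=
  (lcoeff R r).comp (Polynomial.modByMonicHom (pv v))

theorem tau_apply (v : Fin (r + 1) → R) (g : R[X]) : tau v g = (g %ₘ pv v).coeff r := rfl

theorem tau_eq_zero_of_dvd {v : Fin (r + 1) → R} {g : R[X]} (h : pv v ∣ g) : tau v g = 0 := by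
  rw [tau_apply, (modByMonic_eq_zero_iff_dvd (pv_monic v)).2 h, coeff_zero]

theorem tau_X_pow_lt (v : Fin (r + 1) → R) {n : ℕ} (hn : n ≤ r) :
    tau v (X ^ n) = if n = r then 1 else 0 := by
  nontriviality R
  rw [tau_apply, (modByMonic_eq_self_iff (pv_monic v)).2, coeff_X_pow]
  · simp [eq_comm]
  · rw [degree_X_pow, degree_eq_natDegree (pv_monic v).ne_zero, natDegree_pv]
    exact_mod_cast Nat.lt_succ_of_le hn

/-- `∏ (∑ T^k v^(j-1-k))` -/
def phi (j : ℕ) (v : Fin (r + 1) → R) : R[X] :=
  ∏ i, ∑ k ∈ range j, X ^ k * C (v i) ^ (j - 1 - k)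

/-- polynomial annihilating `phi` modulo `pv` -/
def wp (j : ℕ) (v : Fin (r + 1) → R) : R[X] := ∏ i, (X - C ((phi j v).eval (v i)))

/-- `adjugate` of phi -/
def xi (j : ℕ) (v : Fin (r + 1) → R) : R[X] := (wp j v).divX.comp (phi j v)

theorem pv_dvd_wp_comp (j : ℕ) (v : Fin (r + 1) → R) : pv v ∣ (wp j v).comp (phi j v) := by
  rw [wp, Polynomial.prod_comp]
  refine Finset.prod_dvd_prod_of_dvd _ _ fun i _ => ?_
  simp only [sub_comp, X_comp, C_comp]
  exact X_sub_C_dvd_sub_C_eval

theorem phi_mul_xi (j : ℕ) (v : Fin (r + 1) → R) :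
    phi j v * xi j v + C ((wp j v).coeff 0) = (wp j v).comp (phi j v) := by
  have h := congrArg (fun p : R[X] => p.comp (phi j v)) (X_mul_divX_add (wp j v))
  simp only [mul_comp, add_comp, X_comp, C_comp] at h
  exact h

variable {S : Type*} [CommRing S] (φ : R →+* S)

theorem map_pv (v : Fin (r + 1) → R) : (pv v).map φ = pv (φ ∘ v) := by
  simp [pv, Polynomial.map_prod]

theorem map_phi (j : ℕ) (v : Fin (r + 1) → R) : (phi j v).map φ = phi j (φ ∘ v) := by
  simp [phi, Polynomial.map_prod, Polynomial.map_sum]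

theorem map_wp (j : ℕ) (v : Fin (r + 1) → R) : (wp j v).map φ = wp j (φ ∘ v) := by
  simp only [wp, Polynomial.map_prod, Polynomial.map_sub, map_X, map_C, ← map_phi, eval_map]
  refine Finset.prod_congr rfl fun i _ => ?_
  simp [eval₂_hom, Function.comp_apply]

theorem map_divX (p : R[X]) : p.divX.map φ = (p.map φ).divX := by
  ext n
  simp [coeff_divX]

theorem map_xi (j : ℕ) (v : Fin (r + 1) → R) : (xi j v).map φ = xi j (φ ∘ v) := by
  simp [xi, map_comp, map_divX, map_wp, map_phi]

theorem map_tau (v : Fin (r + 1) → R) (g : R[X]) : φ (tau v g) = tau (φ ∘ v) (g.map φ) := by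
  rw [tau_apply, tau_apply, ← map_pv, ← map_modByMonic φ (pv_monic v), coeff_map]

end Defs

section FieldFormula

variable {F : Type*} [Field F]

theorem tau_eq_sum {v : Fin (r + 1) → F} (hv : Function.Injective v) (g : F[X]) :
    tau v g = ∑ i, g.eval (v i) / ∏ l ∈ univ.erase i, (v i - v l) := by
  have hdeg : (g %ₘ pv v).degree < #(univ : Finset (Fin (r + 1))) := by
    refine (degree_modByMonic_lt g (pv_monic v)).trans_le ?_
    rw [degree_eq_natDegree (pv_monic v).ne_zero, natDegree_pv]
    simp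
  rw [tau_apply, Lagrange.eq_interpolate hv.injOn hdeg, Lagrange.interpolate_apply, finsetSum_coeff]
  refine Finset.sum_congr rfl fun i _ => ?_
  have hi : (pv v).eval (v i) = 0 := by
    rw [pv, eval_prod]
    exact Finset.prod_eq_zero (mem_univ i) (by simp)
  have h2 : (g %ₘ pv v).eval (v i) = g.eval (v i) := by
    conv_rhs => rw [← modByMonic_add_div g (pv v)]
    simp [hi]
  have h3 : (Lagrange.basis univ v i).natDegree = r := by
    rw [Lagrange.natDegree_basis hv.injOn (mem_univ i)]; simp
  rw [coeff_C_mul, h2, div_eq_mul_inv, ← Lagrange.leadingCoeff_basis hv.injOn (mem_univ i), leadingCoeff, h3]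

theorem key_field {v : Fin (r + 1) → F} (hv0 : ∀ i, v i ≠ 0) (j : ℕ) (hj : 1 ≤ j) (hjF : (j : F) ≠ 0)
    (hvj : Function.Injective fun i => v i ^ j) (n : ℕ) :
    tau v (C (j : F) * X ^ (j * n + j - 1) * xi j v) =
      -(wp j v).coeff 0 * tau (fun i => v i ^ j) (X ^ n) := by
  have hv : Function.Injective v := fun a b h => hvj (by simp [h])
  rw [tau_eq_sum hv, tau_eq_sum hvj, Finset.mul_sum]
  refine Finset.sum_congr rfl fun i _ => ?_
  set D := ∏ l ∈ univ.erase i, (v i - v l) with hD
  set E := ∏ l ∈ univ.erase i, (v i ^ j - v l ^ j) with hE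
  have hD0 : D ≠ 0 := Finset.prod_ne_zero_iff.2 fun l hl => sub_ne_zero.2 fun h => (mem_erase.1 hl).1 (hv h).symm
  have hE0 : E ≠ 0 := Finset.prod_ne_zero_iff.2 fun l hl =>
    sub_ne_zero.2 fun h => (mem_erase.1 hl).1 (hvj h).symm
  have hphi : (phi j v).eval (v i) * D = (j : F) * v i ^ (j - 1) * E := by
    rw [phi, eval_prod, ← Finset.mul_prod_erase univ _ (mem_univ i), mul_assoc, hD, hE,
      ← Finset.prod_mul_distrib]
    congr 1
    · simp only [eval_finsetSum, eval_mul, eval_pow, eval_X, eval_C]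
      exact geom_sum₂_self (v i) j
    · refine Finset.prod_congr rfl fun l _ => ?_
      simp only [eval_finsetSum, eval_mul, eval_pow, eval_X, eval_C]
      exact geom_sum₂_mul (v i) (v l) j
  have hc : (phi j v).eval (v i) ≠ 0 := by
    intro h
    rw [h, zero_mul] at hphi
    exact mul_ne_zero (mul_ne_zero hjF (pow_ne_zero _ (hv0 i))) hE0 hphi.symm
  have hxi : (phi j v).eval (v i) * (xi j v).eval (v i) = -(wp j v).coeff 0 := by
    have h := congrArg (eval (v i)) (phi_mul_xi j v)
    have h0 : ((wp j v).comp (phi j v)).eval (v i) = 0 := by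
      rw [eval_comp, wp, eval_prod]
      exact Finset.prod_eq_zero (mem_univ i) (by simp)
    rw [eval_add, eval_mul, eval_C, h0] at h
    exact eq_neg_of_add_eq_zero_left h
  simp only [eval_mul, eval_C, eval_pow, eval_X]
  have he : j * n + j - 1 = j * n + (j - 1) := by omega
  rw [he, pow_add, ← pow_mul, ← hxi, mul_div_assoc', div_eq_div_iff hD0 hE0]
  linear_combination (-((xi j v).eval (v i) * v i ^ (j * n))) * hphi

end FieldFormula

/-- The key universal identity. -/
theorem key {R : Type*} [CommRing R] (v : Fin (r + 1) → R) (j : ℕ) (hj : 1 ≤ j) (n : ℕ) :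
    tau v (C (j : R) * X ^ (j * n + j - 1) * xi j v) =
      -(wp j v).coeff 0 * tau (fun i => v i ^ j) (X ^ n) := by
  classical
  let U := MvPolynomial (Fin (r + 1)) ℤ
  let u : Fin (r + 1) → U := MvPolynomial.X
  let ι : U →+* FractionRing U := algebraMap U (FractionRing U)
  have hι : Function.Injective ι := IsFractionRing.injective U (FractionRing U)
  have hu : tau u (C (j : U) * X ^ (j * n + j - 1) * xi j u) =
      -(wp j u).coeff 0 * tau (fun i => u i ^ j) (X ^ n) := by
    apply hι
    have hcomp : (⇑ι ∘ fun i => u i ^ j) = fun i => (ι ∘ u) i ^ j := by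
      funext i; simp
    rw [map_tau, map_mul ι, map_neg, ← coeff_map, map_wp, map_tau, hcomp]
    simp only [Polynomial.map_mul, map_C, Polynomial.map_pow, map_X, map_xi]
    rw [map_natCast ι]
    refine key_field (fun i => (map_ne_zero_iff ι hι).2 (MvPolynomial.X_ne_zero i)) j hj
      (by
        rw [← map_natCast ι]
        exact (map_ne_zero_iff ι hι).2 (Nat.cast_ne_zero.2 (by omega))) ?_ n
    intro a b hab
    have hab' : u a ^ j = u b ^ j := hι (by simpa using hab)
    by_contra hne
    have h := congrArg (MvPolynomial.eval fun l => if l = a then (1 : ℤ) else 0) hab'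
    simp [u, Ne.symm hne, zero_pow (show j ≠ 0 by omega)] at h
  let φ : U →+* R := MvPolynomial.eval₂Hom (Int.castRingHom R) v
  have hφu : φ ∘ u = v := funext fun i => MvPolynomial.eval₂Hom_X' _ _ i
  have h := congrArg φ hu
  have hcomp : (⇑φ ∘ fun i => u i ^ j) = fun i => v i ^ j := by
    funext i
    exact (map_pow φ _ _).trans (congrArg (· ^ j) (MvPolynomial.eval₂Hom_X' _ _ i))
  rw [map_tau, map_mul φ, map_neg, ← coeff_map, map_wp, map_tau, hcomp, hφu] at h
  simpa [map_xi, hφu] using h

section Residue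

variable {A : Type*} [CommRing A]

/-- residue functional on `A[T]/p` -/
def tauRoot (v : Fin (r + 1) → A) : AdjoinRoot (pv v) →ₗ[A] A :=
  (lcoeff A r).comp (AdjoinRoot.modByMonicHom (pv_monic v))

theorem tauRoot_mk (v : Fin (r + 1) → A) (g : A[X]) : tauRoot v (AdjoinRoot.mk (pv v) g) = tau v g := rfl

/-- residues of powers against an inverse Bott class -/
theorem tauRoot_bott (v : Fin (r + 1) → A) (j : ℕ) (hj : 1 ≤ j) (ri w : AdjoinRoot (pv v))
    (hri : ri * AdjoinRoot.root (pv v) = 1)
    (hw : w * (∏ i, ∑ k ∈ range j, (ri * AdjoinRoot.of (pv v) (v i)) ^ k) = 1) (i : ℕ) :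
    tauRoot v (AdjoinRoot.root (pv v) ^ r * ((j : AdjoinRoot (pv v)) * w * AdjoinRoot.root (pv v) ^ (j * i))) =
      tau (fun l => v l ^ j) (X ^ (i + r)) := by
  set t := AdjoinRoot.root (pv v) with ht
  set mkp := AdjoinRoot.mk (pv v) with hmk
  have hX : mkp X = t := AdjoinRoot.mk_X
  set Φ := mkp (phi j v) with hΦ
  have hfac : Φ = (t ^ (j - 1)) ^ (r + 1) * ∏ l, ∑ k ∈ range j, (ri * AdjoinRoot.of (pv v) (v l)) ^ k := by
    have hconst : ((t ^ (j - 1)) ^ (r + 1) : AdjoinRoot (pv v)) = ∏ _l : Fin (r + 1), t ^ (j - 1) := by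
      simp
    rw [hconst, ← Finset.prod_mul_distrib, hΦ, phi, map_prod]
    refine Finset.prod_congr rfl fun l _ => ?_
    rw [map_sum, Finset.mul_sum, ← Finset.sum_range_reflect]
    refine Finset.sum_congr rfl fun k hk => ?_
    have hk' : k < j := Finset.mem_range.1 hk
    rw [map_mul, map_pow, map_pow, hX, show mkp (C (v l)) = AdjoinRoot.of (pv v) (v l) from rfl,
      show j - 1 - (j - 1 - k) = k by omega, mul_pow,
      show t ^ (j - 1) = t ^ (j - 1 - k) * t ^ k by rw [← pow_add]; congr 1; omega]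
    have : ri ^ k * t ^ k = 1 := by rw [← mul_pow, hri, one_pow]
    linear_combination (-(t ^ (j - 1 - k) * AdjoinRoot.of (pv v) (v l) ^ k)) * this
  have hΦinv : (ri ^ (j - 1)) ^ (r + 1) * w * Φ = 1 := by
    have h1 : (ri ^ (j - 1)) ^ (r + 1) * (t ^ (j - 1)) ^ (r + 1) = 1 := by
      rw [← mul_pow, ← mul_pow, hri, one_pow, one_pow]
    rw [hfac]
    linear_combination ((w * ∏ l, ∑ k ∈ range j, (ri * AdjoinRoot.of (pv v) (v l)) ^ k)) * h1 + hw
  set W0 := (wp j v).coeff 0 with hW0
  have hxi : Φ * mkp (xi j v) = AdjoinRoot.of (pv v) (-W0) := by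
    have h := congrArg mkp (phi_mul_xi j v)
    rw [AdjoinRoot.mk_eq_zero.2 (pv_dvd_wp_comp j v), map_add, map_mul] at h
    rw [map_neg]
    exact eq_neg_of_add_eq_zero_left h
  have hunit : IsUnit W0 := by
    rw [hW0, wp, coeff_zero_eq_eval_zero, eval_prod]
    refine IsUnit.prod_univ_iff.2 fun l => ?_
    simp only [eval_sub, eval_X, eval_C, zero_sub, IsUnit.neg_iff]
    let ev : AdjoinRoot (pv v) →+* A := AdjoinRoot.lift (RingHom.id A) (v l) (by
      rw [eval₂_id, pv, eval_prod]
      exact Finset.prod_eq_zero (mem_univ l) (by simp))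
    have hev : ev Φ = (phi j v).eval (v l) := AdjoinRoot.lift_mk _ _
    exact IsUnit.of_mul_eq_one_right _ (by rw [← hev, ← map_mul, hΦinv, map_one])
  have hexp : j * (i + r) + j - 1 = (j - 1) * (r + 1) + (r + j * i) := by
    obtain ⟨j', rfl⟩ : ∃ j', j = j' + 1 := ⟨j - 1, by omega⟩
    simp only [Nat.add_sub_cancel]
    ring_nf
    omega
  have hkey := key v j hj (i + r)
  rw [← tauRoot_mk, map_mul (AdjoinRoot.mk (pv v)), map_mul (AdjoinRoot.mk (pv v)),
    map_pow (AdjoinRoot.mk (pv v)), hexp] at hkey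
  change tauRoot v (mkp (C (j : A)) * mkp X ^ _ * mkp (xi j v)) = _ at hkey
  rw [hX, show mkp (C (j : A)) = (j : AdjoinRoot (pv v)) by simp [mkp]] at hkey
  have hmain : (j : AdjoinRoot (pv v)) * t ^ ((j - 1) * (r + 1) + (r + j * i)) * mkp (xi j v) =
      (-W0) • (t ^ r * ((j : AdjoinRoot (pv v)) * w * t ^ (j * i))) := by
    rw [Algebra.smul_def, AdjoinRoot.algebraMap_eq, ← hxi, pow_add, pow_mul, pow_add]
    have h1 : (ri ^ (j - 1)) ^ (r + 1) * (t ^ (j - 1)) ^ (r + 1) = 1 := by
      rw [← mul_pow, ← mul_pow, hri, one_pow, one_pow]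
    linear_combination
      (-((j : AdjoinRoot (pv v)) * t ^ r * t ^ (j * i) * (t ^ (j - 1)) ^ (r + 1) * mkp (xi j v))) * hΦinv +
        ((j : AdjoinRoot (pv v)) * t ^ r * t ^ (j * i) * mkp (xi j v) * w * Φ) * h1
  rw [hmain, map_smul, smul_eq_mul] at hkey
  exact hunit.neg.mul_left_cancel hkey

end Residue

theorem reflect_X_sub_C {R : Type*} [CommRing R] (a : R) : reflect 1 (X - C a) = 1 - C a * X := by
  rw [reflect_sub, reflect_C, pow_one]
  have h : reflect 1 (X : R[X]) = 1 := by
    ext k
    rw [coeff_reflect, coeff_X, coeff_one]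
    rcases k with - | - | k
    · simp [revAt_le]
    · simp [revAt_le]
    · simp [revAtFun, revAt, show ¬(k + 1 + 1 ≤ 1) by omega]
  rw [h]

theorem reflect_prod_X_sub_C {R : Type*} [CommRing R] {ι : Type*} (v : ι → R) (s : Finset ι) :
    reflect #s (∏ l ∈ s, (X - C (v l))) = ∏ l ∈ s, (1 - C (v l) * X) := by
  classical
  induction s using Finset.induction with
  | empty => simp
  | insert l s hl ih =>
    rw [Finset.prod_insert hl, Finset.prod_insert hl, Finset.card_insert_of_notMem hl, add_comm #s 1]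
    have hdeg : (∏ x ∈ s, (X - C (v x))).natDegree ≤ #s := by
      refine (natDegree_prod_le _ _).trans ?_
      refine (Finset.sum_le_card_nsmul s _ 1 fun x _ => natDegree_X_sub_C_le _).trans ?_
      simp
    rw [reflect_mul _ _ (natDegree_X_sub_C_le _) hdeg, ih, reflect_X_sub_C]

/-- residues of powers are the complete homogeneous functions -/
theorem tau_X_pow_eq_coeff_inv {R : Type*} [CommRing R] (v : Fin (r + 1) → R) (i : ℕ) :
    tau v (X ^ (i + r)) =
      PowerSeries.coeff i ((∏ l, (1 - PowerSeries.C (v l) * PowerSeries.X)).invOfUnit 1) := by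
  nontriviality R
  set a : PowerSeries R := PowerSeries.mk fun n => tau v (X ^ n) with ha
  set b : R[X] := ∏ l, (1 - C (v l) * X) with hb
  have hrefl : ∀ k, k ≤ r + 1 → b.coeff k = (pv v).coeff (r + 1 - k) := by
    intro k hk
    have h : b = reflect (r + 1) (pv v) := by
      rw [hb, pv, ← reflect_prod_X_sub_C v univ]
      simp
    rw [h, coeff_reflect, revAt_le hk]
  have hbdeg : b.natDegree ≤ r + 1 := by
    rw [hb]
    refine (natDegree_prod_le _ _).trans ((Finset.sum_le_card_nsmul _ _ 1 fun l _ => ?_).trans (by simp))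
    refine (natDegree_sub_le _ _).trans ?_
    simp [natDegree_one, natDegree_mul_le_of_le (natDegree_C _).le natDegree_X.le]
  have hab : (b : PowerSeries R) * a = PowerSeries.X ^ r := by
    ext n
    rw [PowerSeries.coeff_mul, PowerSeries.coeff_X_pow, Finset.Nat.sum_antidiagonal_eq_sum_range_succ
      (fun k m => PowerSeries.coeff k (b : PowerSeries R) * PowerSeries.coeff m a)]
    simp only [Polynomial.coeff_coe, ha, PowerSeries.coeff_mk]
    rcases le_or_gt n r with hn | hn
    · rw [Finset.sum_eq_single 0]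
      · rw [hrefl 0 (by omega), Nat.sub_zero, Nat.sub_zero]
        have : (pv v).coeff (r + 1) = 1 := by
          conv_lhs => rw [← natDegree_pv v]
          exact (pv_monic v).coeff_natDegree
        rw [this, one_mul, tau_X_pow_lt v hn]
      · intro k hk hk0
        have : k < n + 1 := Finset.mem_range.1 hk
        rw [tau_X_pow_lt v (by omega), if_neg (by omega), mul_zero]
      · simp
    · rw [if_neg (by omega)]
      have h0 : tau v (X ^ (n - (r + 1)) * pv v) = 0 := tau_eq_zero_of_dvd (dvd_mul_left _ _)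
      rw [as_sum_range' (pv v) (r + 2) (by rw [natDegree_pv]; omega), Finset.mul_sum, map_sum] at h0
      simp only [← C_mul_X_pow_eq_monomial, ← smul_eq_C_mul, mul_smul_comm, ← pow_add,
        map_smul, smul_eq_mul] at h0
      rw [← Finset.sum_range_reflect] at h0
      refine Eq.trans ?_ h0
      symm
      refine Finset.sum_subset_zero_on_sdiff (Finset.range_mono (by omega)) (fun k hk => ?_) (fun k hk => ?_)
      · simp only [Finset.mem_sdiff, Finset.mem_range, not_lt] at hk
        rw [coeff_eq_zero_of_natDegree_lt (by omega), zero_mul]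
      · have hk' : k < r + 2 := Finset.mem_range.1 hk
        rw [hrefl k (by omega), show r + 2 - 1 - k = r + 1 - k by omega,
          show n - (r + 1) + (r + 1 - k) = n - k by omega]
  have hbp : (b : PowerSeries R) = ∏ l, (1 - PowerSeries.C (v l) * PowerSeries.X) := by
    change Polynomial.coeToPowerSeries.ringHom b = _
    simp [hb, map_prod]
  have hinv : (b : PowerSeries R) * (b : PowerSeries R).invOfUnit 1 = 1 := by
    refine PowerSeries.mul_invOfUnit _ 1 ?_
    simp [hbp, map_prod]
  have : a = PowerSeries.X ^ r * (b : PowerSeries R).invOfUnit 1 := by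
    rw [← hab]
    linear_combination (-a) * hinv
  have hc := congrArg (PowerSeries.coeff (i + r)) this
  rw [ha, PowerSeries.coeff_mk, PowerSeries.coeff_X_pow_mul] at hc
  rw [hc, hbp]

end

end Groth.Agent.Lead.AdamsRR
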