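import Groth.Agent.Lead.AdamsRR.Functional
import Mathlib.Algebra.Polynomial.Basis

/-! The γ-filtration of an elementary extension. -/

set_option autoImplicit false

open Finset

namespace Groth.Agent.Lead.AdamsRR

open LambdaRing Groth.Agent.LamG

universe u

noncomputable section

variable {K : Type u} [CommRing K] [LambdaOps K]

/-- γ-operations of the product with a line -/
theorem gamma_line_mul {u z : K} (h : ∀ k, LambdaOps.lam k (u * z) = u ^ k * LambdaOps.lam k z) (k : ℕ) :
    gamma (k + 1) (u * z) =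
      u * ∑ i ∈ range (k + 1), (k.choose i : K) * (1 - u) ^ (k - i) * u ^ i * gamma (i + 1) z := by
  let Λ : Polynomial K →ₗ[K] K := (Polynomial.basisMonomials K).constr K fun j => LambdaOps.lam (j + 1) z
  have hΛ : ∀ j, Λ (Polynomial.X ^ j) = LambdaOps.lam (j + 1) z := fun j => by
    have := (Polynomial.basisMonomials K).constr_basis K (fun j => LambdaOps.lam (j + 1) z) j
    rw [Polynomial.coe_basisMonomials] at this
    simp only [← Polynomial.X_pow_eq_monomial] at this
    exact this
  have hexp : ∀ (c : K) (n : ℕ), Λ ((Polynomial.C c * Polynomial.X + 1) ^ n) =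
      ∑ j ∈ range (n + 1), (n.choose j : K) * c ^ j * LambdaOps.lam (j + 1) z := fun c n => by
    rw [add_pow, map_sum]
    refine Finset.sum_congr rfl fun j _ => ?_
    rw [one_pow, mul_one, mul_pow, ← map_pow,
      show Polynomial.C (c ^ j) * Polynomial.X ^ j * (n.choose j : Polynomial K) =
        Polynomial.C ((n.choose j : K) * c ^ j) * Polynomial.X ^ j by rw [map_mul, map_natCast]; ring,
      ← Polynomial.smul_eq_C_mul, map_smul, hΛ, smul_eq_mul]
  have hg : ∀ i, gamma (i + 1) z = Λ ((Polynomial.C 1 * Polynomial.X + 1) ^ i) := fun i => by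
    rw [hexp, gamma_succ]
    simp
  have hs : ∑ i ∈ range (k + 1), (k.choose i : K) * (1 - u) ^ (k - i) * u ^ i * gamma (i + 1) z =
      Λ ((Polynomial.C u * Polynomial.X + 1) ^ k) := by
    rw [show (Polynomial.C u * Polynomial.X + 1 : Polynomial K) =
      Polynomial.C u * (Polynomial.C 1 * Polynomial.X + 1) + Polynomial.C (1 - u) by simp; ring, add_pow, map_sum]
    refine Finset.sum_congr rfl fun i _ => ?_
    rw [hg, mul_pow, ← map_pow, ← map_pow,
      show Polynomial.C (u ^ i) * (Polynomial.C 1 * Polynomial.X + 1) ^ i * Polynomial.C ((1 - u) ^ (k - i)) *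
          (k.choose i : Polynomial K) =
        Polynomial.C ((k.choose i : K) * (1 - u) ^ (k - i) * u ^ i) * (Polynomial.C 1 * Polynomial.X + 1) ^ i by
          simp only [map_mul, map_natCast]; ring,
      ← Polynomial.smul_eq_C_mul ((k.choose i : K) * (1 - u) ^ (k - i) * u ^ i), map_smul, smul_eq_mul]
  rw [hs, hexp, gamma_succ, Finset.mul_sum]
  refine Finset.sum_congr rfl fun j _ => ?_
  rw [h, pow_succ]
  ring

theorem GFil_good_line_mul {F : GFil K} {u z : K} (h : ∀ k, LambdaOps.lam k (u * z) = u ^ k * LambdaOps.lam k z)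
    (hu : u - 1 ∈ F.G 1) (hz : F.Good z) : F.Good (u * z) := by
  intro k
  rcases k with _ | k
  · exact F.mem_zero _
  rw [gamma_line_mul h, Finset.mul_sum]
  refine Submodule.sum_mem _ fun i hi => Ideal.mul_mem_left _ _ ?_
  have hi' : i ≤ k := Nat.lt_succ_iff.1 (Finset.mem_range.1 hi)
  rw [mul_assoc, mul_assoc]
  refine Ideal.mul_mem_left _ _ (F.anti (show k + 1 ≤ (k - i) * 1 + (i + 1) by omega)
    (F.mul_mem ?_ (Ideal.mul_mem_left _ _ (hz (i + 1)))))
  refine F.pow_mem ?_ _
  rw [← neg_sub]
  exact neg_mem hu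

variable {P : PosStructure K}

/-- the relation between the generator minus one and the γ-classes -/
theorem shift_rel (e : K) (he : e ∈ P.pos) {m : ℕ} (hm : (P.aug e).toNat = m) :
    ∑ k ∈ range (m + 1), ((-1 : K) ^ k * gamma k (e - (m : K))) •
      (AdjoinRoot.root (KRR.extPoly P e) - 1) ^ (m - k) = 0 := by
  have hx : ∀ i, m < i → LambdaOps.lam i e = 0 := fun i hi =>
    P.lam_eq_zero e he i (by have := P.aug_pos e he; omega)
  refine Eq.trans ?_ (root_rel (P := P) e hm)
  set z := AdjoinRoot.root (KRR.extPoly P e) - 1 with hz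
  rw [show AdjoinRoot.root (KRR.extPoly P e) = z + 1 by rw [hz]; ring]
  simp only [gamma_sub_natCast (lam_one_eq_zero P) hx, Finset.mul_sum, Finset.sum_smul]
  rw [Finset.sum_comm]
  refine Finset.sum_congr rfl fun i hi => ?_
  have hi' : i ≤ m := Nat.lt_succ_iff.1 (Finset.mem_range.1 hi)
  rw [add_pow, Finset.smul_sum, ← Finset.sum_range_reflect (fun l => cc e i • (z ^ l * 1 ^ (m - i - l) * ((m - i).choose l : AdjoinRoot (KRR.extPoly P e)))),
    ← Finset.sum_range_add_sum_Ico _ (show i ≤ m + 1 by omega), Finset.sum_eq_zero (s := range i) (fun k hk => by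
      rw [if_neg (by have := Finset.mem_range.1 hk; omega), mul_zero, zero_smul]), zero_add,
    Finset.sum_Ico_eq_sum_range, show m + 1 - i = m - i + 1 by omega]
  refine Finset.sum_congr rfl fun l hl => ?_
  have hl' : l ≤ m - i := Nat.lt_succ_iff.1 (Finset.mem_range.1 hl)
  rw [if_pos (by omega), Nat.add_sub_cancel_left, show m - i + 1 - 1 - l = m - (i + l) by omega,
    one_pow, mul_one, Nat.choose_symm_of_eq_add (show m - i = m - (i + l) + l by omega)]
  simp only [Algebra.smul_def, AdjoinRoot.algebraMap_eq, cc, map_mul, map_pow, map_neg, map_one, map_natCast, pow_add]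
  have e1 : ((-1 : AdjoinRoot (KRR.extPoly P e)) ^ l) * (-1) ^ l = 1 := by
    rw [← mul_pow, neg_one_mul, neg_neg, one_pow]
  linear_combination ((-1 : AdjoinRoot (KRR.extPoly P e)) ^ i * AdjoinRoot.of (KRR.extPoly P e) (LambdaOps.lam i e) *
    z ^ (m - (i + l)) * ((m - i).choose l : AdjoinRoot (KRR.extPoly P e))) * e1

/-- generators of the predicted filtration -/
def extGens (P : PosStructure K) (e : K) (k : ℕ) : Set (AdjoinRoot (KRR.extPoly P e)) :=
  {y | ∃ (i : ℕ) (a : K), a ∈ gammaFil P.aug (k - i) ∧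
    y = AdjoinRoot.of (KRR.extPoly P e) a * (AdjoinRoot.root (KRR.extPoly P e) - 1) ^ i}

theorem closure_extGens_mul {e : K} {m n : ℕ} {x y : AdjoinRoot (KRR.extPoly P e)}
    (hx : x ∈ AddSubgroup.closure (extGens P e m)) (hy : y ∈ AddSubgroup.closure (extGens P e n)) :
    x * y ∈ AddSubgroup.closure (extGens P e (m + n)) := by
  induction hx using AddSubgroup.closure_induction with
  | mem x hx =>
    induction hy using AddSubgroup.closure_induction with
    | mem y hy =>
      obtain ⟨i, a, ha, rfl⟩ := hx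
      obtain ⟨l, b, hb, rfl⟩ := hy
      refine AddSubgroup.subset_closure ⟨i + l, a * b, gammaFil_anti _ (by omega) (gammaFil_mul_mem _ ha hb), ?_⟩
      rw [map_mul, pow_add]; ring
    | zero => rw [mul_zero]; exact zero_mem _
    | add a b _ _ ha hb => rw [mul_add]; exact add_mem ha hb
    | neg a _ ha => rw [mul_neg]; exact neg_mem ha
  | zero => rw [zero_mul]; exact zero_mem _
  | add a b _ _ ha hb => rw [add_mul]; exact add_mem ha hb
  | neg a _ ha => rw [neg_mul]; exact neg_mem ha

theorem closure_extGens_zero (e : K) (x : AdjoinRoot (KRR.extPoly P e)) :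
    x ∈ AddSubgroup.closure (extGens P e 0) := by
  have h1 : ∀ a : K, AdjoinRoot.of (KRR.extPoly P e) a ∈ AddSubgroup.closure (extGens P e 0) := fun a =>
    AddSubgroup.subset_closure ⟨0, a, by rw [Nat.zero_sub, gammaFil_zero]; trivial, by rw [pow_zero, mul_one]⟩
  have h2 : AdjoinRoot.root (KRR.extPoly P e) ∈ AddSubgroup.closure (extGens P e 0) := by
    rw [show AdjoinRoot.root (KRR.extPoly P e) = (AdjoinRoot.root (KRR.extPoly P e) - 1) + AdjoinRoot.of (KRR.extPoly P e) 1 by
      rw [map_one]; ring]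
    exact add_mem (AddSubgroup.subset_closure ⟨1, 1, by rw [Nat.zero_sub, gammaFil_zero]; trivial,
      by rw [map_one, one_mul, pow_one]⟩) (h1 1)
  induction x using AdjoinRoot.induction_on with
  | _ q =>
    induction q using Polynomial.induction_on with
    | C a => rw [AdjoinRoot.mk_C]; exact h1 a
    | add p q hp hq => rw [map_add]; exact add_mem hp hq
    | monomial n a ih =>
      rw [pow_succ, ← mul_assoc, map_mul, AdjoinRoot.mk_X]
      exact closure_extGens_mul (m := 0) (n := 0) ih h2

/-- the predicted filtration of the extension -/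
def extGFil (P : PosStructure K) (e : K) : GFil (AdjoinRoot (KRR.extPoly P e)) where
  G k :=
    { carrier := AddSubgroup.closure (extGens P e k)
      zero_mem' := zero_mem _
      add_mem' := add_mem
      smul_mem' := fun c x hx => by simpa using closure_extGens_mul (closure_extGens_zero e c) hx }
  zero_eq := eq_top_iff.2 fun x _ => closure_extGens_zero e x
  anti := fun {m n} h x hx =>
    AddSubgroup.closure_mono (by rintro _ ⟨i, a, ha, rfl⟩; exact ⟨i, a, gammaFil_anti _ (by omega) ha, rfl⟩) hx
  mul_mem := fun ha hb => closure_extGens_mul ha hb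

theorem mem_extGFil {e : K} {k : ℕ} {x : AdjoinRoot (KRR.extPoly P e)} :
    x ∈ (extGFil P e).G k ↔ x ∈ AddSubgroup.closure (extGens P e k) := Iff.rfl

theorem root_sub_one_pow_sub_one_mem (e : K) (i : ℕ) :
    AdjoinRoot.root (KRR.extPoly P e) ^ i - 1 ∈ (extGFil P e).G 1 := by
  obtain ⟨c, hc⟩ := sub_one_dvd_pow_sub_one (AdjoinRoot.root (KRR.extPoly P e)) i
  rw [hc]
  refine Ideal.mul_mem_right _ _ (mem_extGFil.2 (AddSubgroup.subset_closure ⟨1, 1, ?_, ?_⟩))
  · rw [Nat.sub_self, gammaFil_zero]; trivial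
  · rw [map_one, one_mul, pow_one]

end

end Groth.Agent.Lead.AdamsRR
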