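import Groth.Agent.Lead.AdamsRR.Lambda

/-! The functional of an elementary extension on powers of the generator. -/

set_option autoImplicit false

open Finset

namespace Groth.Agent.Lead.AdamsRR

open LambdaRing Groth.Agent.LamG

universe u

noncomputable section

variable {K : Type u} [CommRing K] [LambdaOps K] {P : PosStructure K}

/-- signed λ-operations -/
def cc (e : K) (i : ℕ) : K := (-1 : K) ^ i * LambdaOps.lam i e

theorem cc_zero (e : K) : cc e 0 = 1 := by simp [cc, LambdaOps.lam_zero]

theorem cc_eq_zero (hK : HasSplitting K P) {e : K} (he : e ∈ P.pos) {i : ℕ} (hi : (P.aug e).toNat < i) : cc e i = 0 := by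
  obtain ⟨L, φ, hL, hφ, s, hs, hse⟩ := split1_splitting hK he
  apply hφ.injective
  rw [cc, map_mul, hφ.isLambdaHom, ← hse, lam_sum_lines hs, map_zero, Multiset.esymm,
    Multiset.powersetCard_eq_empty i (by rw [card_eq_toNat_aug hφ hs hse]; exact hi)]
  simp

/-- the recursion of the complete functions -/
theorem sigma_rec (e : K) (N : ℕ) :
    ∑ i ∈ range (N + 1), cc e i * KRR.sigma (N - i) e = if N = 0 then 1 else 0 := by
  have h : PowerSeries.rescale (-1 : K) (lamSeries e) * KRR.sigmaSeries e = 1 :=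
    PowerSeries.mul_invOfUnit _ _ (by
      rw [← PowerSeries.coeff_zero_eq_constantCoeff_apply, PowerSeries.coeff_rescale]
      simp [lamSeries, LambdaOps.lam_zero])
  have h2 := congrArg (PowerSeries.coeff N) h
  rw [PowerSeries.coeff_mul, Finset.Nat.sum_antidiagonal_eq_sum_range_succ_mk, PowerSeries.coeff_one] at h2
  simpa [cc, KRR.sigma, lamSeries, PowerSeries.coeff_rescale] using h2

theorem root_rel (e : K) {m : ℕ} (hm : (P.aug e).toNat = m) :
    ∑ i ∈ range (m + 1), cc e i • AdjoinRoot.root (KRR.extPoly P e) ^ (m - i) = 0 := by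
  have h : AdjoinRoot.mk (KRR.extPoly P e) (∑ i ∈ range (m + 1),
      Polynomial.C (cc e i) * Polynomial.X ^ (m - i)) = 0 := by
    refine AdjoinRoot.mk_eq_zero.2 (dvd_of_eq ?_)
    rw [KRR.extPoly, hm]
    rfl
  rw [← h, map_sum]
  refine Finset.sum_congr rfl fun i _ => ?_
  rw [map_mul, map_pow, AdjoinRoot.mk_X, AdjoinRoot.mk_C, Algebra.smul_def, AdjoinRoot.algebraMap_eq]

variable {e : K} {r : ℕ} {f : AdjoinRoot (KRR.extPoly P e) →ₗ[K] K}

theorem f_root_pow (hK : HasSplitting K P) (he : e ∈ P.pos) (hr : P.aug e = r + 1)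
    (hf : ∀ i : ℕ, i ≤ r → f (AdjoinRoot.root (KRR.extPoly P e) ^ i) = KRR.sigma i e) (N : ℕ) :
    f (AdjoinRoot.root (KRR.extPoly P e) ^ N) = KRR.sigma N e := by
  induction N using Nat.strong_induction_on with
  | _ N ih =>
    rcases Nat.lt_or_ge r N with hN | hN
    swap
    · exact hf N hN
    have hm : (P.aug e).toNat = r + 1 := by omega
    have h := congrArg (fun x => f (AdjoinRoot.root (KRR.extPoly P e) ^ (N - (r + 1)) * x)) (root_rel (P := P) e hm)
    simp only [mul_zero, map_zero, Finset.mul_sum, mul_smul_comm, map_sum, map_smul, smul_eq_mul, ← pow_add] at h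
    have h' := sigma_rec e N
    rw [if_neg (by omega), ← Finset.sum_range_add_sum_Ico _ (show r + 1 + 1 ≤ N + 1 by omega),
      Finset.sum_eq_zero (s := Finset.Ico _ _) (fun i hi => by
        rw [cc_eq_zero hK he (by have := (Finset.mem_Ico.1 hi).1; omega), zero_mul]), add_zero,
      Finset.sum_range_succ'] at h'
    rw [Finset.sum_range_succ'] at h
    rw [cc_zero, one_mul, Nat.sub_zero] at h h'
    rw [show N - (r + 1) + (r + 1) = N by omega] at h
    have hs : ∑ k ∈ range (r + 1), cc e (k + 1) * f (AdjoinRoot.root (KRR.extPoly P e) ^ (N - (r + 1) + (r + 1 - (k + 1)))) =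
        ∑ k ∈ range (r + 1), cc e (k + 1) * KRR.sigma (N - (k + 1)) e := by
      refine Finset.sum_congr rfl fun k hk => ?_
      have := Finset.mem_range.1 hk
      rw [ih _ (by omega), show N - (r + 1) + (r + 1 - (k + 1)) = N - (k + 1) by omega]
    rw [hs] at h
    exact add_left_cancel (h.trans h'.symm)

theorem f_inv_pow (hK : HasSplitting K P) (he : e ∈ P.pos) (hr : P.aug e = r + 1)
    (hf : ∀ i : ℕ, i ≤ r → f (AdjoinRoot.root (KRR.extPoly P e) ^ i) = KRR.sigma i e)
    {linv : AdjoinRoot (KRR.extPoly P e)} (hl : linv * AdjoinRoot.root (KRR.extPoly P e) = 1)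
    {n : ℕ} (h1 : 1 ≤ n) (hn : n ≤ r) : f (linv ^ n) = 0 := by
  have hm : (P.aug e).toNat = r + 1 := by omega
  have hu : IsUnit (cc e (r + 1)) := by
    obtain ⟨g, rfl⟩ := AdjoinRoot.mk_surjective linv
    have hd : KRR.extPoly P e ∣ g * Polynomial.X - 1 := by
      rw [← AdjoinRoot.mk_eq_zero, map_sub, map_mul, map_one, AdjoinRoot.mk_X, hl, sub_self]
    obtain ⟨w, hw⟩ := hd
    have h0 := congrArg (Polynomial.eval 0) hw
    simp only [Polynomial.eval_sub, Polynomial.eval_mul, Polynomial.eval_X, mul_zero, zero_sub, Polynomial.eval_one] at h0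
    have hp : (KRR.extPoly P e).eval 0 = cc e (r + 1) := by
      rw [KRR.extPoly, hm, Polynomial.eval_finsetSum, Finset.sum_range_succ, Finset.sum_eq_zero, zero_add]
      · simp [cc]
      · intro i hi
        have := Finset.mem_range.1 hi
        simp [zero_pow (show r + 1 - i ≠ 0 by omega)]
    rw [hp] at h0
    exact IsUnit.of_mul_eq_one (-w.eval 0) (by rw [mul_neg, ← h0, neg_neg])
  induction n using Nat.strong_induction_on with
  | _ n ih =>
    refine hu.mul_right_eq_zero.1 ?_
    have h := congrArg (fun x => f (linv ^ n * x)) (root_rel (P := P) e hm)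
    simp only [mul_zero, map_zero, Finset.mul_sum, mul_smul_comm, map_sum, map_smul, smul_eq_mul] at h
    rw [Finset.sum_range_succ, Nat.sub_self, pow_zero, mul_one] at h
    have hs : ∑ i ∈ range (r + 1), cc e i * f (linv ^ n * AdjoinRoot.root (KRR.extPoly P e) ^ (r + 1 - i)) = 0 := by
      rw [← Finset.sum_range_add_sum_Ico _ (show r + 1 - n + 1 ≤ r + 1 by omega),
        Finset.sum_eq_zero (s := Finset.Ico _ _) (fun i hi => ?_), add_zero]
      · have h' := sigma_rec e (r + 1 - n)
        rw [if_neg (by omega)] at h'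
        rw [← h']
        refine Finset.sum_congr rfl fun i hi => ?_
        have hi' := Finset.mem_range.1 hi
        rw [← f_root_pow hK he hr hf]
        congr 2
        rw [show r + 1 - i = n + (r + 1 - n - i) by omega, pow_add, ← mul_assoc, ← mul_pow, hl, one_pow, one_mul]
      · obtain ⟨hi1, hi2⟩ := Finset.mem_Ico.1 hi
        have hz : linv ^ n * AdjoinRoot.root (KRR.extPoly P e) ^ (r + 1 - i) = linv ^ (n - (r + 1 - i)) := by
          conv_lhs => rw [show n = n - (r + 1 - i) + (r + 1 - i) by omega]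
          rw [pow_add, mul_assoc, ← mul_pow, hl, one_pow, mul_one]
        rw [hz, ih (n - (r + 1 - i)) (by omega) (by omega) (by omega), mul_zero]
    rw [hs, zero_add] at h
    exact h

end

end Groth.Agent.Lead.AdamsRR
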