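import Mathlib.RingTheory.Polynomial.Vieta
import Groth.Prelude.Def_KRR
import Groth.Agent.Lead.AdamsRR.Core
import Groth.Agent.LamG.Positive

set_option autoImplicit false

open Finset

namespace Groth.Agent.Lead.AdamsRR

open LambdaRing Groth.Agent.LamG

universe u

noncomputable section

/-- Bott's polynomial on elementary symmetric values -/
theorem aeval_bottPoly {A : Type*} [CommRing A] (j n : ℕ) (w : Fin n → A) :
    MvPolynomial.aeval (fun i : Fin n => ((univ : Finset (Fin n)).val.map w).esymm (i.1 + 1)) (KRR.bottPoly j n) =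
      ∏ i, ∑ k ∈ range j, w i ^ k := by
  have h := (MvPolynomial.esymmAlgEquiv (Fin n) ℤ (Fintype.card_fin n)).apply_symm_apply
    ⟨KRR.bottSym j n, KRR.bottSym_isSymmetric j n⟩
  have h' : MvPolynomial.aeval w (MvPolynomial.aeval (fun i : Fin n => MvPolynomial.esymm (Fin n) ℤ (i + 1))
      (KRR.bottPoly j n)) = MvPolynomial.aeval w (KRR.bottSym j n) := by
    rw [← MvPolynomial.esymmAlgHom_apply]
    exact congrArg (fun q => MvPolynomial.aeval w (Subtype.val q)) h
  rw [MvPolynomial.comp_aeval_apply] at h'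
  simp only [MvPolynomial.aeval_esymm_eq_multiset_esymm, KRR.bottSym, map_prod, map_sum, map_pow,
    MvPolynomial.aeval_X] at h'
  exact h'

variable {K : Type u} [CommRing K] [LambdaOps K] {P : PosStructure K}

/-- image of the Bott class under a ring map -/
theorem map_bott {A : Type*} [CommRing A] (G : K →+* A) (j : ℕ) {x : K} {n : ℕ} (hn : (P.aug x).toNat = n)
    (w : Fin n → A) (h : ∀ k, G (LambdaOps.lam k x) = ((univ : Finset (Fin n)).val.map w).esymm k) :
    G (KRR.bott P j x) = ∏ i, ∑ k ∈ range j, w i ^ k := by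
  subst hn
  rw [← aeval_bottPoly, KRR.bott, MvPolynomial.aeval_def, MvPolynomial.aeval_def, MvPolynomial.eval₂_comp_left]
  congr 1
  · exact RingHom.ext_int _ _
  · funext i
    exact h _

theorem lam_sum_lines {s : Multiset K} (hs : ∀ u ∈ s, P.IsLine u) (k : ℕ) :
    LambdaOps.lam k s.sum = s.esymm k :=
  congrFun (lamSeq_sum_lines s fun v hv => isLine_lam (hs v hv)) k

theorem esymm_map_mul {R : Type*} [CommRing R] (c : R) (s : Multiset R) (k : ℕ) :
    (s.map (c * ·)).esymm k = c ^ k * s.esymm k := by
  rw [Multiset.esymm, Multiset.powersetCard_map, Multiset.map_map, Multiset.esymm, ← Multiset.sum_map_mul_left]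
  refine congrArg Multiset.sum (Multiset.map_congr rfl fun t ht => ?_)
  rw [Function.comp_apply, Multiset.prod_map_mul, Multiset.map_const', Multiset.prod_replicate, Multiset.map_id',
    (Multiset.mem_powersetCard.1 ht).2]

theorem lam_line_mul (hK : HasSplitting K P) {u : K} (hu : P.IsLine u) (z : K) (k : ℕ) :
    LambdaOps.lam k (u * z) = u ^ k * LambdaOps.lam k z := by
  suffices h : ∀ z, lamSeries (u * z) = PowerSeries.rescale u (lamSeries z) by
    have := congrArg (PowerSeries.coeff k) (h z)
    simpa [lamSeries, PowerSeries.coeff_rescale] using this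
  intro z
  induction z using pos_induction (P := P) with
  | hsub a b ha hb =>
    have h1 : lamSeries (u * a) = lamSeries (u * (a - b)) * lamSeries (u * b) := by
      rw [← lamSeries_add]; ring_nf
    have h2 : lamSeries a = lamSeries (a - b) * lamSeries b := by
      rw [← lamSeries_add, sub_add_cancel]
    rw [ha, h2, map_mul, ← hb] at h1
    have hunit : IsUnit (lamSeries (u * b)) :=
      PowerSeries.isUnit_iff_constantCoeff.2 (by simp [lamSeries, LambdaOps.lam_zero])
    exact (hunit.mul_left_injective h1).symm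
  | hpos e he =>
    obtain ⟨L, φ, hφ, s, hs, hse⟩ := split1 hK he
    ext k
    simp only [lamSeries, PowerSeries.coeff_rescale, PowerSeries.coeff_mk]
    apply hφ.injective
    rw [map_mul, map_pow, hφ.isLambdaHom, hφ.isLambdaHom, map_mul, ← hse, lam_sum_lines hs,
      ← esymm_map_mul]
    have e : φ u * s.sum = (s.map (φ u * ·)).sum := by
      rw [Multiset.sum_map_mul_left, Multiset.map_id']
    rw [e, lam_sum_lines (P := L.posStr)]
    intro v hv
    obtain ⟨b, hb, rfl⟩ := Multiset.mem_map.1 hv
    exact isLine_mul (isLine_map hφ hu) (hs b hb)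

theorem rescale_lamSeries_sum_lines {s : Multiset K} (hs : ∀ u ∈ s, P.IsLine u) :
    PowerSeries.rescale (-1 : K) (lamSeries s.sum) =
      (s.map fun u => 1 - PowerSeries.C u * PowerSeries.X).prod := by
  induction s using Multiset.induction_on with
  | empty =>
    ext k
    cases k with
    | zero => simp [lamSeries, LambdaOps.lam_zero, PowerSeries.coeff_rescale]
    | succ k =>
      simp [lamSeries, Groth.Agent.LamG.lam_zero_eq, PowerSeries.coeff_rescale, PowerSeries.coeff_one]
  | cons a s ih =>
    rw [Multiset.sum_cons, lamSeries_add, map_mul, Multiset.map_cons, Multiset.prod_cons,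
      ih fun u hu => hs u (Multiset.mem_cons_of_mem hu)]
    congr 1
    ext k
    rcases k with - | - | k
    · simp [lamSeries, LambdaOps.lam_zero, PowerSeries.coeff_rescale]
    · simp [lamSeries, LambdaOps.lam_one, PowerSeries.coeff_rescale]
    · simp [lamSeries, isLine_lam (hs a (Multiset.mem_cons_self a s)) (k + 1 + 1) (by omega),
        PowerSeries.coeff_rescale, PowerSeries.coeff_one, PowerSeries.coeff_X]

/-- `φ` turns `e` into a sum of the lines `v` -/
structure SplitData (P : PosStructure K) (e : K) (n : ℕ) where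
  L : PosLambdaRing.{u}
  φ : K →+* L.carrier
  v : Fin n → L.carrier
  splitting : HasSplitting L.carrier L.posStr
  ext : IsExtension P L.posStr φ
  line : ∀ i, L.posStr.IsLine (v i)
  sum_eq : ((univ : Finset (Fin n)).val.map v).sum = φ e

theorem nonempty_splitData (hK : HasSplitting K P) {e : K} (he : e ∈ P.pos) {n : ℕ} (hn : (P.aug e).toNat = n) :
    Nonempty (SplitData P e n) := by
  obtain ⟨L, φ, hL, hφ, s, hs, hse⟩ := split1_splitting hK he
  have hcard := card_eq_toNat_aug hφ hs hse
  obtain ⟨l, rfl⟩ : ∃ l : List L.carrier, (l : Multiset L.carrier) = s := ⟨s.toList, s.coe_toList⟩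
  obtain rfl : l.length = n := by simpa [hn] using hcard
  have hmap : (univ : Finset (Fin l.length)).val.map l.get = (l : Multiset L.carrier) := by
    rw [Fin.univ_val_map, List.ofFn_get]
  exact ⟨⟨L, φ, l.get, hL, hφ, fun i => hs _ (hmap ▸ Multiset.mem_map_of_mem _ (Finset.mem_univ i)),
    by rw [hmap, hse]⟩⟩

namespace SplitData

variable {e : K}

theorem map_lam {n : ℕ} (d : SplitData P e n) (k : ℕ) : d.φ (LambdaOps.lam k e) = ((univ : Finset (Fin n)).val.map d.v).esymm k := by
  rw [d.ext.isLambdaHom, ← d.sum_eq, lam_sum_lines (P := d.L.posStr)]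
  intro u hu
  obtain ⟨i, -, rfl⟩ := Multiset.mem_map.1 hu
  exact d.line i

variable {r : ℕ} (d : SplitData P e (r + 1))

theorem map_extPoly (hr : (P.aug e).toNat = r + 1) : (KRR.extPoly P e).map d.φ = pv d.v := by
  have h := Multiset.prod_X_sub_X_eq_sum_esymm ((univ : Finset (Fin (r + 1))).val.map d.v)
  rw [Multiset.map_map, Multiset.card_map] at h
  have hc : Multiset.card (univ : Finset (Fin (r + 1))).val = r + 1 := by simp
  rw [hc] at h
  rw [pv, Finset.prod_eq_multiset_prod]
  refine Eq.trans ?_ h.symm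
  rw [KRR.extPoly, hr, Polynomial.map_sum]
  refine Finset.sum_congr rfl fun k _ => ?_
  rw [Polynomial.map_mul, Polynomial.map_C, Polynomial.map_pow, Polynomial.map_X, map_mul, map_pow, map_neg, map_one, d.map_lam]
  simp only [map_mul, map_pow, map_neg, map_one, mul_assoc]

include d in
theorem monic_extPoly (hr : (P.aug e).toNat = r + 1) : (KRR.extPoly P e).Monic :=
  Polynomial.monic_of_injective d.ext.injective (by rw [d.map_extPoly hr]; exact pv_monic d.v)

theorem map_sigma (i : ℕ) : d.φ (KRR.sigma i e) = tau d.v (Polynomial.X ^ (i + r)) := by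
  have hs : ∀ u ∈ (univ : Finset (Fin (r + 1))).val.map d.v, d.L.posStr.IsLine u := fun u hu => by
    obtain ⟨l, -, rfl⟩ := Multiset.mem_map.1 hu
    exact d.line l
  have hmap : PowerSeries.map d.φ (PowerSeries.rescale (-1 : K) (lamSeries e)) =
      ∏ l, (1 - PowerSeries.C (d.v l) * PowerSeries.X) := by
    have h1 : PowerSeries.map d.φ (PowerSeries.rescale (-1 : K) (lamSeries e)) =
        PowerSeries.rescale (-1 : d.L.carrier) (lamSeries (d.φ e)) := by
      ext k
      simp [lamSeries, PowerSeries.coeff_rescale, d.ext.isLambdaHom k e]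
    rw [h1, ← d.sum_eq, rescale_lamSeries_sum_lines hs, Multiset.map_map, Finset.prod_eq_multiset_prod]
    rfl
  have h2 : PowerSeries.rescale (-1 : K) (lamSeries e) * KRR.sigmaSeries e = 1 :=
    PowerSeries.mul_invOfUnit _ 1 (by
      rw [← PowerSeries.coeff_zero_eq_constantCoeff_apply, PowerSeries.coeff_rescale]
      simp [lamSeries, LambdaOps.lam_zero])
  have h3 : (∏ l, (1 - PowerSeries.C (d.v l) * PowerSeries.X)) *
      (∏ l, (1 - PowerSeries.C (d.v l) * PowerSeries.X)).invOfUnit 1 = 1 :=
    PowerSeries.mul_invOfUnit _ 1 (by simp [map_prod])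
  have h4 : PowerSeries.map d.φ (KRR.sigmaSeries e) =
      (∏ l, (1 - PowerSeries.C (d.v l) * PowerSeries.X)).invOfUnit 1 := by
    refine left_inv_eq_right_inv ?_ h3
    rw [mul_comm, ← hmap, ← map_mul, h2, map_one]
  rw [tau_X_pow_eq_coeff_inv, ← h4, KRR.sigma, PowerSeries.coeff_map]

/-- the residue formula for a functional with the values `σ^i` on the basis -/
theorem map_functional (hr : (P.aug e).toNat = r + 1)
    (f : AdjoinRoot (KRR.extPoly P e) →ₗ[K] K)
    (hf : ∀ i : ℕ, i ≤ r → f (AdjoinRoot.root (KRR.extPoly P e) ^ i) = KRR.sigma i e) (g : Polynomial K) :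
    d.φ (f (AdjoinRoot.mk (KRR.extPoly P e) g)) = tau d.v (Polynomial.X ^ r * g.map d.φ) := by
  set p := KRR.extPoly P e with hp
  have hmon : p.Monic := d.monic_extPoly hr
  nontriviality d.L.carrier
  have hdeg : p.natDegree = r + 1 := by
    rw [← Polynomial.natDegree_map_eq_of_injective d.ext.injective p, hp, d.map_extPoly hr, natDegree_pv]
  set q := g %ₘ p with hq
  have hgq : AdjoinRoot.mk p g = AdjoinRoot.mk p q := by
    rw [AdjoinRoot.mk_eq_mk, hq]
    exact ⟨g /ₘ p, by linear_combination -(Polynomial.modByMonic_add_div g p)⟩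
  have hR : tau d.v (Polynomial.X ^ r * g.map d.φ) = tau d.v (Polynomial.X ^ r * q.map d.φ) := by
    rw [← sub_eq_zero, ← map_sub, ← mul_sub]
    refine tau_eq_zero_of_dvd (dvd_mul_of_dvd_right ?_ _)
    refine ⟨(g /ₘ p).map d.φ, ?_⟩
    rw [← d.map_extPoly hr, ← hp, ← Polynomial.map_mul, ← Polynomial.map_sub]
    congr 1
    rw [hq]
    linear_combination -(Polynomial.modByMonic_add_div g p)
  have hqdeg : q.natDegree < r + 1 := by
    rw [← hdeg]
    exact Polynomial.natDegree_modByMonic_lt g hmon (fun h => by rw [h] at hdeg; simp at hdeg)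
  rw [hgq, hR, q.as_sum_range' (r + 1) hqdeg]
  simp only [map_sum, Polynomial.map_sum, Finset.mul_sum]
  refine Finset.sum_congr rfl fun i hi => ?_
  have hi' : i ≤ r := Nat.lt_succ_iff.1 (Finset.mem_range.1 hi)
  rw [← Polynomial.C_mul_X_pow_eq_monomial, map_mul, map_pow, AdjoinRoot.mk_C, AdjoinRoot.mk_X,
    ← AdjoinRoot.algebraMap_eq, ← Algebra.smul_def, map_smul, smul_eq_mul, map_mul, hf i hi', d.map_sigma,
    Polynomial.map_mul, Polynomial.map_pow, Polynomial.map_C, Polynomial.map_X, mul_left_comm,
    ← pow_add, ← Polynomial.smul_eq_C_mul, map_smul, smul_eq_mul, add_comm r i]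

end SplitData

end

end Groth.Agent.Lead.AdamsRR
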